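import Cfsg.Agent.Lib.CosetEnum.Fi22Out.Twist
import Cfsg.Agent.Lib.CosetEnum.Fi22Out.Data
import Cfsg.Agent.Lib.CosetEnum.Fi22U62.Data

/-! The two checks on the twist alone. -/

set_option autoImplicit false
set_option maxRecDepth 100000
set_option Elab.async false

namespace Cfsg.Lib.CosetEnum.Fi22OutMin

open Fi22U62 (tabP)
open Fi22Out

theorem twist_valid : twistOK tabP twist 9 3510 sub = true := by decide +kernel

theorem twist_fixed : fixCount twist 3510 = 360 := by decide +kernel

end Cfsg.Lib.CosetEnum.Fi22OutMin
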