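import Cfsg.Agent.Lib.CosetEnum.Fi22Table
import Cfsg.Agent.Lib.CosetEnum.Fi22OutMin.Check
import Cfsg.Agent.Lib.CosetEnum.Trans.Twist

/-!
# The twist is an outer automorphism of the presented group Fi22
-/

set_option autoImplicit false

namespace Cfsg.Lib.CosetEnum.Fi22OutMin

open Cfsg.Spor Fi22Out

set_option maxRecDepth 100000

theorem exists_outer : ∃ σ : MulAut Cfsg.Spor.Fi22, σ ∉ Cfsg.Inn Cfsg.Spor.Fi22 := by
  obtain ⟨A, hZ, hk, hp, -, hd0, hp0, -, -, -⟩ := exists_table
  have hFi : Cfsg.IsFi22 Cfsg.Spor.Fi22 := Fi22Pres.isFi22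
  haveI : IsSimpleGroup Cfsg.Spor.Fi22 := hFi.1
  haveI : Finite Cfsg.Spor.Fi22 := Nat.finite_of_card_ne_zero (by rw [hFi.2]; decide)
  have hk0 : 0 < A.k := by rw [hk]; decide
  obtain ⟨σ, π, hπval, hπ⟩ := A.exists_twist (Pi := twist) (sub := sub) (by decide)
    (by rw [hZ, hk]; exact twist_valid) (by rw [hp0]; decide +kernel) hk0 hd0 (by decide +kernel)
  refine ⟨σ, A.twist_not_inn (by rw [hFi.2]; decide) hπ
    (sign_involution π (Equiv.ext fun p => Fin.ext ?_) (m := 1575) (by decide) ?_)⟩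
  · show (π (π p)).1 = p.1
    have h := twist_valid
    simp only [twistOK, Bool.and_eq_true] at h
    have := scanOK_get h.2 p.1 (Nat.zero_le _) (by omega) (condsB_iff.2 (by simp))
    simp only [force_eq, Bool.and_eq_true, Nat.beq_eq, and_assoc] at this
    rw [hπval, hπval]
    exact this.2.1
  · have h : ((Finset.univ.filter fun i => π i = i) : Finset (Fin 3510)).card = fixCount twist 3510 := by
      rw [fixCount_eq, ← Finset.card_map Fin.valEmbedding]
      congr 1
      ext j
      simp only [Finset.mem_map, Finset.mem_filter, Finset.mem_univ, true_and, Finset.mem_range,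
        Fin.valEmbedding_apply]
      constructor
      · rintro ⟨i, hi, rfl⟩
        exact ⟨i.2, by rw [← hπval, hi]⟩
      · rintro ⟨hj, he⟩
        exact ⟨⟨j, hj⟩, Fin.ext ((hπval _).trans he), rfl⟩
    rw [h, twist_fixed]

end Cfsg.Lib.CosetEnum.Fi22OutMin
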